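import Groth.Agent.Sga5.H854.Fibres
import Groth.Agent.Sga5.H851.ThetaLoc
import Mathlib.AlgebraicGeometry.Morphisms.Etale

/-!
# The covering `C' ⟶ C` of S4175/S4182 satisfies `IsRam`
-/

set_option autoImplicit false
set_option linter.unusedSectionVars false
universe u w
open CategoryTheory CategoryTheory.Limits AlgebraicGeometry Opposite

namespace Groth.Agent.Sga5.H854.IsRamOfCover

open Groth.Agent.Sga4B.ConstLC Groth.Agent.Sga5.H851.FunSheaf Groth.Agent.Sga5.H851.ThetaLoc

variable {k : Type u} [Field k] [IsAlgClosed k] {C C' U : Scheme.{u}}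
  (f : C ⟶ Spec (CommRingCat.of k)) [LocallyOfFiniteType f] (q : C' ⟶ C) [IsFinite q] [Surjective q]
  (j : U ⟶ C) [IsOpenImmersion j] (hqet : EtCoh.etaleMP (pullback.snd q j))
  (hW : EtCoh.etaleMP (pullback.snd q j ≫ j))

/-- `q⁻¹(U)`, as an étale `C`-scheme -/
noncomputable abbrev Wob : C.Etale := MorphismProperty.Over.mk ⊤ (pullback.snd q j ≫ j) hW

include hqet in
theorem etale_pf : Etale (pf q (Wob q j hW)) := by
  have sq : IsPullback (pf q (Wob q j hW)) (ps q (Wob q j hW)) (pullback.snd q j ≫ j) q :=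
    isPullback q (Wob q j hW)
  have sq2 : IsPullback (pullback.snd q j) (pullback.fst q j) j q := (IsPullback.of_hasPullback q j).flip
  let l : P q (Wob q j hW) ⟶ pullback q j :=
    sq2.lift (pf q (Wob q j hW) ≫ pullback.snd q j) (ps q (Wob q j hW))
      (by rw [Category.assoc]; exact sq.w)
  have hl1 : l ≫ pullback.snd q j = pf q (Wob q j hW) ≫ pullback.snd q j := sq2.lift_fst _ _ _
  have hl2 : l ≫ pullback.fst q j = ps q (Wob q j hW) := sq2.lift_snd _ _ _
  have sq3 : IsPullback (pf q (Wob q j hW)) l (pullback.snd q j) (pullback.snd q j) := by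
    refine IsPullback.of_bot (h₁₁ := pf q (Wob q j hW)) (v₁₁ := l) (v₁₂ := pullback.snd q j)
      (h₂₁ := pullback.snd q j) (v₂₁ := pullback.fst q j) (v₂₂ := j) (h₃₁ := q) ?_ hl1.symm sq2
    rw [hl2]
    exact sq
  exact MorphismProperty.of_isPullback (P := EtCoh.etaleMP) sq3.flip hqet

variable {G : Type w} [Group G] [Finite G] (ρ : G →* Aut C') (hρ : ∀ g : G, (ρ g).hom ≫ q = q)

section

variable {V : C.Etale} (s : V.left ⟶ P q V) (hs : s ≫ pf q V = 𝟙 _)

include hs in
theorem isClosed_range_section : IsClosed (Set.range s) := by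
  have h1 : IsFinite (pf q V) := MorphismProperty.pullback_fst (P := @IsFinite) _ _ inferInstance
  have h2 : IsClosedImmersion (s ≫ pf q V) := by
    rw [hs]
    infer_instance
  have h3 : IsClosedImmersion s := IsClosedImmersion.of_comp s (pf q V)
  exact s.isClosedEmbedding.isClosed_range

include hs in
theorem isOpen_range_section (h : Etale (pf q V)) : IsOpen (Set.range s) := by
  have h2 : EtCoh.etaleMP (s ≫ pf q V) := by
    rw [hs]
    exact (inferInstance : Etale (𝟙 V.left))
  have h3 : Etale s := EtCoh.etaleMP.of_postcomp (W' := EtCoh.etaleMP) s (pf q V) h h2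
  exact s.isOpenMap.isOpen_range

end

include f in
/-- the covering is trivial over `V` as soon as it has a section over `V` and is étale over `V` -/
theorem nonempty_triv' (htr : ∀ y₁ y₂ : C', q y₁ = q y₂ → ∃ g : G, (ρ g).hom y₁ = y₂)
    (hfree : ∀ y : C', IsClosed ({y} : Set C') → q.base y ∈ Set.range j.base →
      ∀ g : G, (ρ g).hom.base y = y → g = 1) (V : C.Etale) (t : V.left ⟶ C') (ht : t ≫ q = V.hom)
    (hpf : Etale (pf q V)) (hV : ∀ v : V.left, V.hom v ∈ Set.range j) :
    Nonempty (Triv q ρ hρ (q ⁻¹' (Set.range j)ᶜ) V) := by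
  have hfin : IsFinite (pf q V) := MorphismProperty.pullback_fst (P := @IsFinite) _ _ inferInstance
  have hVe : Etale V.hom := V.prop
  have hJP : JacobsonSpace (P q V) := LocallyOfFiniteType.jacobsonSpace (pf q V ≫ V.hom ≫ f)
  have hJW : JacobsonSpace V.left := LocallyOfFiniteType.jacobsonSpace (V.hom ≫ f)
  have hJC : JacobsonSpace C := LocallyOfFiniteType.jacobsonSpace f
  have hJC' : JacobsonSpace C' := LocallyOfFiniteType.jacobsonSpace (q ≫ f)
  have hsec : ∀ g : G, (sec t ht ≫ γ q ρ hρ V g) ≫ pf q V = 𝟙 _ :=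
    fun g => by rw [Category.assoc, γ_pf, sec_pf]
  have hclosed := fun g => isClosed_range_section q _ (hsec g)
  have hopen := fun g => isOpen_range_section q _ (hsec g) hpf
  have hcl : ∀ z : P q V, IsClosed ({z} : Set (P q V)) → IsClosed ({pf q V z} : Set V.left) :=
    fun z hz => (pf q V).closePoints_subset_preimage_closedPoints hz
  have hcond : ∀ z : P q V, q (ps q V z) ∈ Set.range j := fun z => by
    have h1 : q (ps q V z) = V.hom (pf q V z) := by
      rw [← Scheme.Hom.comp_apply, ← (isPullback q V).w, Scheme.Hom.comp_apply]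
    rw [h1]
    exact hV _
  refine ⟨{
    t := t
    ht := ht
    isOpen := isOpen_range_section q _ (sec_pf _ ht) hpf
    uniq := fun z => ?_
    nY := fun z hz => hz (hcond z) }⟩
  refine existsUnique_of_exists_of_unique ?_ ?_
  · by_contra hne
    have hAo : IsOpen (⋃ g : G, Set.range (sec t ht ≫ γ q ρ hρ V g))ᶜ :=
      (isClosed_iUnion_of_finite hclosed).isOpen_compl
    have hz : z ∈ (⋃ g : G, Set.range (sec t ht ≫ γ q ρ hρ V g))ᶜ := by
      intro h
      obtain ⟨g, hg⟩ := Set.mem_iUnion.1 h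
      exact hne ⟨g, hg⟩
    obtain ⟨z₀, hz₀, hz₀c⟩ := nonempty_inter_closedPoints ⟨z, hz⟩ hAo.isLocallyClosed
    have h1 : pf q V (sec t ht (pf q V z₀)) = pf q V z₀ := by
      rw [← Scheme.Hom.comp_apply, sec_pf]
      rfl
    obtain ⟨g, hg⟩ := Fibres.exists_γ_eq f q ρ hρ htr V
      (sec t ht (pf q V z₀)) z₀ (by rw [h1]; exact hcl z₀ hz₀c) h1
    exact hz₀ (Set.mem_iUnion.2 ⟨g, pf q V z₀, by rw [Scheme.Hom.comp_apply, hg]⟩)
  · intro g g' hg hg'
    obtain ⟨z₀, ⟨⟨v, hv⟩, ⟨v', hv'⟩⟩, hz₀c⟩ := nonempty_inter_closedPoints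
      (Z := Set.range (sec t ht ≫ γ q ρ hρ V g) ∩ Set.range (sec t ht ≫ γ q ρ hρ V g')) ⟨z, hg, hg'⟩
      ((hopen g).inter (hopen g')).isLocallyClosed
    have h1 : ∀ (g : G) (v : V.left), pf q V ((sec t ht ≫ γ q ρ hρ V g) v) = v := fun g v => by
      rw [← Scheme.Hom.comp_apply, hsec]
      rfl
    have h2 : ∀ (g : G) (v : V.left), ps q V ((sec t ht ≫ γ q ρ hρ V g) v) = (ρ g).hom (t v) :=
      fun g v => by
        rw [← Scheme.Hom.comp_apply, Category.assoc, γ_ps, sec_ps_assoc, Scheme.Hom.comp_apply]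
    have hvv : v = v' := by rw [← h1 g v, hv, ← hv', h1]
    subst hvv
    have h5 : (ρ g).hom (t v) = (ρ g').hom (t v) := by rw [← h2, hv, ← hv', h2]
    have hvc : IsClosed ({v} : Set V.left) := by
      rw [← h1 g v, hv]
      exact hcl z₀ hz₀c
    have hft : LocallyOfFiniteType t := by
      have : LocallyOfFiniteType (t ≫ q) := by
        rw [ht]
        infer_instance
      exact locallyOfFiniteType_of_comp t q
    have hyc : IsClosed ({t v} : Set C') := t.closePoints_subset_preimage_closedPoints hvc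
    have hyr : q.base (t v) ∈ Set.range j.base := by
      have h3 : q (t v) = V.hom v := by rw [← Scheme.Hom.comp_apply, ht]
      have h4 := hV v
      rw [← h3] at h4
      exact h4
    have h6 : (ρ (g'⁻¹ * g)).hom.base (t v) = t v := by
      have h7 : (ρ (g'⁻¹ * g)).hom = (ρ g).hom ≫ (ρ g'⁻¹).hom := ρ_mul ρ g'⁻¹ g
      have h8 : (ρ (g'⁻¹ * g')).hom = (ρ g').hom ≫ (ρ g'⁻¹).hom := ρ_mul ρ g'⁻¹ g'
      rw [inv_mul_cancel, ρ_one] at h8
      rw [h7]
      change (ρ g'⁻¹).hom ((ρ g).hom (t v)) = _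
      rw [h5, ← Scheme.Hom.comp_apply, ← h8]
      rfl
    have h9 := hfree _ hyc hyr _ h6
    rw [inv_mul_eq_one] at h9
    exact h9.symm

include f hqet in
/-- the covering is trivial over `q⁻¹(U)` -/
theorem nonempty_triv (htr : ∀ y₁ y₂ : C', q y₁ = q y₂ → ∃ g : G, (ρ g).hom y₁ = y₂)
    (hfree : ∀ y : C', IsClosed ({y} : Set C') → q.base y ∈ Set.range j.base →
      ∀ g : G, (ρ g).hom.base y = y → g = 1) :
    Nonempty (Triv q ρ hρ (q ⁻¹' (Set.range j)ᶜ) (Wob q j hW)) :=
  nonempty_triv' f q j ρ hρ htr hfree (Wob q j hW) (pullback.fst q j) pullback.condition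
    (etale_pf q j hqet hW) fun v => ⟨pullback.snd q j v, rfl⟩

include f hqet in
/-- `IsRam` for the coverings of S4175/S4182 -/
theorem isRam (htr : ∀ y₁ y₂ : C', q y₁ = q y₂ → ∃ g : G, (ρ g).hom y₁ = y₂)
    (hfree : ∀ y : C', IsClosed ({y} : Set C') → q.base y ∈ Set.range j.base →
      ∀ g : G, (ρ g).hom.base y = y → g = 1) :
    IsRam q ρ hρ (q ⁻¹' (Set.range j)ᶜ) where
  closed V := by
    have hfin : IsFinite (pf q V) := MorphismProperty.pullback_fst (P := @IsFinite) _ _ inferInstance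
    exact (pf q V).isClosedMap
  loc x := by
    by_cases hx : x ∈ Set.range j
    · right
      obtain ⟨u, rfl⟩ := hx
      have hW : EtCoh.etaleMP (pullback.snd q j ≫ j) :=
        EtCoh.etaleMP.comp_mem _ _ hqet (inferInstance : Etale j)
      obtain ⟨y, hy⟩ := q.surjective (j u)
      obtain ⟨w, -, hw⟩ := Scheme.Pullback.exists_preimage_pullback (f := q) (g := j) y u hy
      refine ⟨Wob q j hW, w, ?_, nonempty_triv f q j hqet hW ρ hρ htr hfree⟩
      change (pullback.snd q j ≫ j) w = j u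
      rw [Scheme.Hom.comp_apply, hw]
    · left
      rintro x' rfl
      exact hx

end Groth.Agent.Sga5.H854.IsRamOfCover
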